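import Cfsg.Agent.H995.CopCoprime
import Cfsg.Agent.Lib.PSolvable
import Cfsg.Agent.Lib.HallHigman
import Cfsg.Agent.H199.NSmAbs
import Cfsg.Prelude.Def_CaseTheorems
import Cfsg.Agent.H58.Cop.MSc_m3
import Cfsg.Agent.H58.Mon.FiveB_m3
import Cfsg.Agent.H332.MonUpper
import Cfsg.Agent.H149.Sp.Monster
import Cfsg.Agent.H606.PQR.Pieces_m3
import Cfsg.Agent.FastGrp
import Cfsg.Agent.Prune
set_option linter.all false
prune_inst 0x7f00000000000000000000000000000000000000000000000000000000000000000000000000000000000000000000000000000000000000000000000000000000000000000000000000000000000000003fffffffffffffffffffffffffffbeffbdffffffff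
open scoped Cfsg.Agent.FastGrp

-- part: H87/MP/Abs
section
/-!
# S3988, row M: elements of order `p` when all proper subgroups are `p`-solvable (helper87)
-/

set_option autoImplicit false

namespace Cfsg.Agent.H87.MP

open Subgroup Cfsg
open Cfsg.Agent.H995.CopEngine
open scoped Pointwise

universe u

section Str

variable {H : Type u} [Group H] [Finite H] {p : ℕ} [hp : Fact p.Prime]

/-- **The structure of a `p`-solvable group with Sylow `p`-subgroups of order `p`.** -/
theorem struct (hs : IsPSolvable p H) (hd : p ∣ Nat.card H) (h2 : ¬ p ^ 2 ∣ Nat.card H) :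
    ∃ (K : Subgroup H) (_ : K.Normal), ¬ p ∣ Nat.card K ∧ (∀ A : Subgroup H, A.Normal → ¬ p ∣ Nat.card A → A ≤ K) ∧
      K.index ∣ p * (p - 1) ∧ ∀ x : H, orderOf x = p → orderOf (QuotientGroup.mk x : H ⧸ K) = p ∧
        (∀ t : H, (QuotientGroup.mk (t * x * t⁻¹) : H ⧸ K) ∈ zpowers (QuotientGroup.mk x : H ⧸ K)) ∧
        ∀ t : H, (QuotientGroup.mk (t * x * t⁻¹) : H ⧸ K) = QuotientGroup.mk x →
          (QuotientGroup.mk t : H ⧸ K) ∈ zpowers (QuotientGroup.mk x : H ⧸ K) := by
  set K := pPrimeCore p H with hK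
  have hKn : K.Normal := Lib.HallHigman.pPrimeCore_normal p
  have hKc : (Nat.card K).Coprime p := Lib.HallHigman.pPrimeCore_coprime p
  have hpK : ¬ p ∣ Nat.card K := (hp.out.coprime_iff_not_dvd).1 hKc.symm
  have hcore : pPrimeCore p (H ⧸ K) = ⊥ := Lib.HallHigman.pPrimeCore_quotient_eq_bot p K rfl
  have hsQ : IsPSolvable p (H ⧸ K) :=
    Lib.PSolvable.IsPSolvable_of_surjective p hs (QuotientGroup.mk' K) (QuotientGroup.mk'_surjective K)
  set R := pCore p (H ⧸ K) with hR
  have hC : centralizer (R : Set (H ⧸ K)) ≤ R := Lib.PSolvable.centralizer_pCore_le_of_pSolvable p hsQ hcore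
  have hRn : R.Normal := Lib.HallHigman.pCore_normal p
  have hRp : IsPGroup p R := Lib.HallHigman.pCore_isPGroup p
  have hcQ := Subgroup.card_eq_card_quotient_mul_card_subgroup K
  have hdQ : p ∣ Nat.card (H ⧸ K) := by
    rw [hcQ] at hd
    exact (hp.out.dvd_mul.1 hd).resolve_right hpK
  have h2Q : ¬ p ^ 2 ∣ Nat.card (H ⧸ K) := fun h => h2 (by rw [hcQ]; exact h.mul_right _)
  obtain ⟨k, hk⟩ := IsPGroup.iff_card.1 hRp
  have hk1 : k = 1 := by
    have h3 : k ≤ 1 := by
      by_contra h4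
      exact h2Q ((pow_dvd_pow p (by omega)).trans (hk ▸ Subgroup.card_subgroup_dvd_card R))
    have h4 : k ≠ 0 := by
      rintro rfl
      rw [pow_zero] at hk
      have h5 : R = ⊥ := Subgroup.card_eq_one.1 hk
      have h6 : Nat.card (H ⧸ K) = 1 := by
        rw [Nat.card_eq_one_iff_unique]
        refine ⟨⟨fun a b => ?_⟩, ⟨1⟩⟩
        have h7 : ∀ a : H ⧸ K, a = 1 := fun a => by
          have h8 : a ∈ centralizer (R : Set (H ⧸ K)) := by
            rw [h5, mem_centralizer_iff]
            intro b hb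
            have : b = 1 := by simpa using hb
            rw [this, one_mul, mul_one]
          have h9 := hC h8
          rw [h5, mem_bot] at h9
          exact h9
        rw [h7 a, h7 b]
      rw [h6] at hdQ
      exact hp.out.one_lt.ne' (Nat.dvd_one.1 hdQ)
    omega
  rw [hk1, pow_one] at hk
  have hRC : R ≤ centralizer (R : Set (H ⧸ K)) := by
    have hcyc : IsCyclic R := isCyclic_of_prime_card hk
    intro a ha
    rw [mem_centralizer_iff]
    intro b hb
    have := hcyc.commGroup.mul_comm (⟨b, hb⟩ : R) ⟨a, ha⟩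
    exact congrArg Subtype.val this
  have hCR : centralizer (R : Set (H ⧸ K)) = R := le_antisymm hC hRC
  have hidx : Nat.card (H ⧸ K) ∣ p * (p - 1) := by
    have h3 := relIndex_centralizer_dvd hp.out R hk
    have h4 : normalizer (R : Set (H ⧸ K)) = ⊤ := Subgroup.normalizer_eq_top_iff.2 hRn
    rw [hCR, h4, Subgroup.relIndex_top_right] at h3
    rw [← R.card_mul_index, hk]
    exact Nat.mul_dvd_mul_left _ h3
  refine ⟨K, hKn, hpK, fun A hA hpA => Lib.HallHigman.le_pPrimeCore hA
    ((hp.out.coprime_iff_not_dvd).2 hpA).symm, by rw [Subgroup.index_eq_card]; exact hidx, fun x hx => ?_⟩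
  have hxo : orderOf (QuotientGroup.mk x : H ⧸ K) = p := by
    apply orderOf_eq_prime
    · rw [← QuotientGroup.mk_pow, ← hx, pow_orderOf_eq_one, QuotientGroup.mk_one]
    · intro h
      rw [QuotientGroup.eq_one_iff] at h
      apply hpK
      rw [← hx]
      exact Subgroup.orderOf_dvd_natCard K h
  have hxR : zpowers (QuotientGroup.mk x : H ⧸ K) = R := by
    have h3 : IsPGroup p (zpowers (QuotientGroup.mk x : H ⧸ K)) :=
      IsPGroup.of_card (n := 1) (by rw [Nat.card_zpowers, hxo, pow_one])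
    obtain ⟨P, hP⟩ := h3.exists_le_sylow
    have h4 := sylow_card hp.out hdQ h2Q P
    have h5 : R = (P : Subgroup (H ⧸ K)) :=
      Subgroup.eq_of_le_of_card_ge (Lib.HallHigman.pCore_le_sylow p P) (by rw [h4, hk])
    rw [h5]
    exact Subgroup.eq_of_le_of_card_ge hP (by rw [h4, Nat.card_zpowers, hxo])
  refine ⟨hxo, fun t => ?_, fun t ht => ?_⟩
  · rw [hxR, QuotientGroup.mk_mul, QuotientGroup.mk_mul, QuotientGroup.mk_inv]
    exact hRn.conj_mem _ (hxR ▸ mem_zpowers _) _
  · rw [hxR]
    apply hC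
    rw [← hxR, mem_centralizer_iff]
    rintro _ ⟨i, rfl⟩
    have h3 : (QuotientGroup.mk t : H ⧸ K) * QuotientGroup.mk x = QuotientGroup.mk x * QuotientGroup.mk t := by
      rw [QuotientGroup.mk_mul, QuotientGroup.mk_mul, QuotientGroup.mk_inv, mul_inv_eq_iff_eq_mul] at ht
      exact ht
    exact ((show Commute (QuotientGroup.mk x : H ⧸ K) (QuotientGroup.mk t) from h3.symm).zpow_left i).eq

end Str

section Inv

variable {G : Type u} [Group G] [Finite G] {p : ℕ} [hp : Fact p.Prime]

theorem mem_normalizer_of {S : Subgroup G} {x : G} (h : ∀ a ∈ S, x * a * x⁻¹ ∈ S) : x ∈ normalizer (S : Set G) := by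
  have h1 : S.map (MulAut.conj x).toMonoidHom ≤ S := by
    rintro _ ⟨a, ha, rfl⟩
    exact h a ha
  have h2 : S.map (MulAut.conj x).toMonoidHom = S :=
    Subgroup.eq_of_le_of_card_ge h1 (by rw [Subgroup.card_map_of_injective (MulAut.conj x).injective])
  rw [mem_normalizer_iff]
  intro a
  refine ⟨h a, fun ha => ?_⟩
  have h3 : x * a * x⁻¹ ∈ S.map (MulAut.conj x).toMonoidHom := by rw [h2]; exact ha
  obtain ⟨b, hb, hba⟩ := h3
  have h4 : x * b * x⁻¹ = x * a * x⁻¹ := hba
  have h5 : b = a := by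
    have := congrArg (fun t => x⁻¹ * t * x) h4
    simpa only [mul_assoc, _root_.inv_mul_cancel_left, _root_.inv_mul_cancel, _root_.mul_one] using this
  rw [← h5]; exact hb

/-- **Invariant Sylow subgroups.** -/
theorem exists_inv {x : G} (hx : x ^ p = 1) {K : Subgroup G} (hxK : x ∈ normalizer (K : Set G))
    (hpK : ¬ p ∣ Nat.card K) (q : ℕ) [Fact q.Prime] : ∃ S : Subgroup G, S ≤ K ∧ IsPGroup q S ∧
      Nat.card S = q ^ (Nat.card K).factorization q ∧ x ∈ normalizer (S : Set G) ∧
      ∀ A : Subgroup G, A ≤ K → IsPGroup q A → K ≤ normalizer (A : Set G) → A ≤ S := by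
  set H := normalizer (K : Set G) with hH
  have hKH : K ≤ H := le_normalizer
  set K' : Subgroup H := K.subgroupOf H with hK'
  have hn : K'.Normal := normal_in_normalizer
  have hcK : Nat.card K' = Nat.card K := Nat.card_congr (subgroupOfEquivOfLe hKH).toEquiv
  have hpK' : ¬ p ∣ Nat.card K' := by rwa [hcK]
  set w : H := ⟨x, hxK⟩ with hw
  have hwp : w ^ p = 1 := Subtype.ext hx
  obtain ⟨P, hP⟩ := exists_fixed hp.out K' hpK' hwp (p := q)
  let f : K' →* G := H.subtype.comp K'.subtype
  have hf : Function.Injective f := H.subtype_injective.comp K'.subtype_injective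
  have hfK : ∀ a : K', f a ∈ K := fun a => mem_subgroupOf.1 a.2
  refine ⟨(P : Subgroup K').map f, ?_, P.2.map f, ?_, ?_, ?_⟩
  · rintro _ ⟨a, -, rfl⟩
    exact hfK a
  · rw [Subgroup.card_map_of_injective hf, ← hcK]
    exact Sylow.card_eq_multiplicity P
  · apply mem_normalizer_of
    rintro _ ⟨a, ha, rfl⟩
    have h3 : (MulAut.conjNormal w : MulAut K') • a ∈ (MulAut.conjNormal w : MulAut K') • (P : Subgroup K') :=
      Subgroup.smul_mem_pointwise_smul _ _ _ ha
    have h4 : ((MulAut.conjNormal w : MulAut K') • (P : Subgroup K')) = (P : Subgroup K') :=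
      congrArg (fun Q : Sylow q K' => (Q : Subgroup K')) hP
    rw [h4] at h3
    refine ⟨_, h3, ?_⟩
    have h5 := MulAut.conjNormal_apply w a
    exact congrArg H.subtype h5
  · intro A hAK hA hKA
    have h1 : (A.comap f).Normal := by
      refine ⟨fun a ha b => ?_⟩
      show f (b * a * b⁻¹) ∈ A
      rw [map_mul, map_mul, map_inv]
      exact (mem_normalizer_iff.1 (hKA (hfK b)) (f a)).1 ha
    have h2 : IsPGroup q (A.comap f) := hA.comap_of_injective f hf
    have h3 := (Lib.HallHigman.le_pCore h1 h2).trans (Lib.HallHigman.pCore_le_sylow q P)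
    intro a ha
    exact ⟨⟨⟨a, hKH (hAK ha)⟩, mem_subgroupOf.2 (hAK ha)⟩, h3 ha, rfl⟩

/-- fixed points -/
theorem fixed_mod {x : G} (hx : x ^ p = 1) {S : Subgroup G} (hxS : x ∈ normalizer (S : Set G)) :
    Nat.card (S ⊓ centralizer ({x} : Set G) : Subgroup G) ≡ Nat.card S [MOD p] := by
  classical
  let f : Function.End S := fun a => ⟨x * a * x⁻¹, (mem_normalizer_iff.1 hxS a).1 a.2⟩
  have hfn : ∀ (n : ℕ) (a : S), (((f ^ n : Function.End S) a : S) : G) = x ^ n * a * (x ^ n)⁻¹ := by
    intro n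
    induction n with
    | zero =>
      intro a
      rw [pow_zero, pow_zero, one_mul, inv_one, mul_one]
      rfl
    | succ n ih =>
      intro a
      rw [pow_succ']
      change x * (((f ^ n : Function.End S) a : S) : G) * x⁻¹ = _
      rw [ih, pow_succ']
      group
  have hf : f ^ p ^ 1 = 1 := by
    funext a
    apply Subtype.ext
    rw [pow_one, hfn, hx, one_mul, inv_one, mul_one]
    rfl
  have : Fintype S := Fintype.ofFinite _
  have h1 := Equiv.Perm.card_fixedPoints_modEq hf
  rw [← Nat.card_eq_fintype_card, ← Nat.card_eq_fintype_card] at h1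
  have h2 : Nat.card f.fixedPoints = Nat.card (S ⊓ centralizer ({x} : Set G) : Subgroup G) := by
    refine Nat.card_congr
      { toFun := fun a => ⟨((a : S) : G), (a : S).2, ?_⟩
        invFun := fun a => ⟨⟨(a : G), a.2.1⟩, ?_⟩
        left_inv := fun a => rfl
        right_inv := fun a => rfl }
    · have h3 : x * ((a : S) : G) * x⁻¹ = ((a : S) : G) := congrArg Subtype.val a.2
      rw [mul_inv_eq_iff_eq_mul] at h3
      exact mem_centralizer_singleton_iff.2 h3.symm
    · have h3 := mem_centralizer_singleton_iff.1 a.2.2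
      apply Subtype.ext
      show x * (a : G) * x⁻¹ = a
      rw [mul_inv_eq_iff_eq_mul]
      exact h3.symm
  rw [← h2]
  exact h1.symm

end Inv

/-- The hypotheses. -/
structure Hyp (p : ℕ) (G : Type u) [Group G] (D : Set G) : Prop where
  simple : IsSimpleGroup G
  big : 6 < p
  sq : ¬ p ^ 2 ∣ Nat.card G
  solv : ∀ H : Subgroup G, H ≠ ⊤ → IsPSolvable p H
  inv : ∀ t : G, orderOf t = 2 → ¬ p ∣ Nat.card (centralizer ({t} : Set G))
  rank : PRankLE 2 15 G
  two : ∀ k, 1 ≤ k → k ≤ 15 → 2 ^ k % p ≠ 1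
  cen : center G = ⊥
  conj : ∀ d ∈ D, ∀ g : G, g * d * g⁻¹ ∈ D
  ord : ∀ d ∈ D, orderOf d = 2
  six : ∀ d ∈ D, ∀ e ∈ D, orderOf (d * e) ≤ 6

section Main

variable {G : Type u} [Group G] [Finite G] {p : ℕ} [hp : Fact p.Prime] {D : Set G}

/-- the elements of order at most 2 of the centre of a subgroup -/
def om {H : Type*} [Group H] (P : Subgroup H) : Subgroup H where
  carrier := {v | v ∈ P ∧ (∀ a ∈ P, v * a = a * v) ∧ v ^ 2 = 1}
  one_mem' := ⟨P.one_mem, fun a _ => by rw [one_mul, mul_one], one_pow 2⟩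
  mul_mem' := by
    rintro a b ⟨h1, h2, h3⟩ ⟨h4, h5, h6⟩
    refine ⟨P.mul_mem h1 h4, fun c hc => ?_, ?_⟩
    · rw [mul_assoc, h5 c hc, ← mul_assoc, h2 c hc, mul_assoc]
    · rw [(show Commute a b from h2 b h4).mul_pow, h3, h6, one_mul]
  inv_mem' := by
    rintro a ⟨h1, h2, h3⟩
    refine ⟨P.inv_mem h1, fun c hc => ?_, by rw [inv_pow, h3, inv_one]⟩
    exact ((show Commute a c from h2 c hc).inv_left).eq

theorem om_ne_bot {H : Type*} [Group H] [Finite H] {P : Subgroup H} (hP : IsPGroup 2 P) (h : P ≠ ⊥) : om P ≠ ⊥ := by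
  have : Fact (Nat.Prime 2) := ⟨Nat.prime_two⟩
  have : Nontrivial P := (Subgroup.nontrivial_iff_ne_bot P).2 h
  have h1 : Nontrivial (center P) := hP.center_nontrivial
  obtain ⟨k, hk⟩ := IsPGroup.iff_card.1 (hP.to_subgroup (center P))
  have h2 : 2 ∣ Nat.card (center P) := by
    rw [hk]
    rcases Nat.eq_zero_or_pos k with h3 | h3
    · rw [h3, pow_zero] at hk
      have := Finite.one_lt_card (α := center P)
      omega
    · exact dvd_pow_self 2 h3.ne'
  obtain ⟨v, hv⟩ := exists_prime_orderOf_dvd_card' 2 h2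
  intro h3
  have h4 : ((v : P) : H) ∈ om P := by
    refine ⟨(v : P).2, fun a ha => ?_, ?_⟩
    · exact (congrArg Subtype.val (mem_center_iff.1 v.2 ⟨a, ha⟩)).symm
    · have h5 : v ^ 2 = 1 := by rw [← hv, pow_orderOf_eq_one]
      exact congrArg (fun t : center P => ((t : P) : H)) h5
  rw [h3, mem_bot] at h4
  have h5 : v = 1 := Subtype.ext (Subtype.ext h4)
  rw [h5, orderOf_one] at hv
  norm_num at hv

/-- no involution commutes with `x` -/
theorem Hyp.no_inv (B : Hyp p G D) {x t : G} (hx : orderOf x = p) (ht : orderOf t = 2) : t * x ≠ x * t := by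
  intro h
  apply B.inv t ht
  rw [← hx]
  exact Subgroup.orderOf_dvd_natCard _ (mem_centralizer_singleton_iff.2 h.symm)

/-- **(II)** `x` normalizes no `p'`-subgroup of even order -/
theorem Hyp.odd (B : Hyp p G D) {x : G} (hx : orderOf x = p) {K : Subgroup G} (hxK : x ∈ normalizer (K : Set G))
    (hpK : ¬ p ∣ Nat.card K) : ¬ 2 ∣ Nat.card K := by
  intro h2
  have hxp : x ^ p = 1 := by rw [← hx, pow_orderOf_eq_one]
  have : Fact (Nat.Prime 2) := ⟨Nat.prime_two⟩
  obtain ⟨S, -, hS, hSc, hxS, -⟩ := exists_inv hxp hxK hpK 2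
  have hS1 : S ≠ ⊥ := by
    rintro rfl
    rw [Subgroup.card_bot] at hSc
    have h7 : 1 ≤ (Nat.card K).factorization 2 :=
      (Nat.prime_two.dvd_iff_one_le_factorization Nat.card_pos.ne').1 h2
    have h8 : 2 ^ 1 ≤ 2 ^ (Nat.card K).factorization 2 := Nat.pow_le_pow_right (by norm_num) h7
    rw [← hSc] at h8
    norm_num at h8
  have hE1 := om_ne_bot hS hS1
  have hxE : x ∈ normalizer ((om S : Subgroup G) : Set G) := by
    apply mem_normalizer_of
    rintro a ⟨h5, h6, h7⟩
    refine ⟨(mem_normalizer_iff.1 hxS a).1 h5, fun c hc => ?_, ?_⟩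
    · have h9 : x⁻¹ * c * x ∈ S := by
        have := (mem_normalizer_iff.1 (inv_mem hxS) c).1 hc
        rwa [inv_inv] at this
      have h8 := h6 _ h9
      calc x * a * x⁻¹ * c = x * (a * (x⁻¹ * c * x)) * x⁻¹ := by group
        _ = x * ((x⁻¹ * c * x) * a) * x⁻¹ := by rw [h8]
        _ = c * (x * a * x⁻¹) := by group
    · rw [conj_pow, h7, mul_one, mul_inv_cancel]
  have hEp : IsPGroup 2 (om S : Subgroup G) := fun a => ⟨1, Subtype.ext (by
    rw [pow_one]
    exact a.2.2.2)⟩
  obtain ⟨k, hk⟩ := IsPGroup.iff_card.1 hEp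
  have hk15 : k ≤ 15 := by
    have h5 := B.rank (om S) ?_ (fun a ha => ha.2.2)
    · rw [hk] at h5
      exact (Nat.pow_le_pow_iff_right (by norm_num : 1 < 2)).1 h5
    · exact ⟨⟨fun a b => Subtype.ext (a.2.2.1 b b.2.1)⟩⟩
  have hk1 : 1 ≤ k := by
    rcases Nat.eq_zero_or_pos k with h | h
    · rw [h, pow_zero] at hk
      exact absurd (Subgroup.card_eq_one.1 hk) hE1
    · exact h
  have h3 := fixed_mod hxp hxE
  have h4 : (om S ⊓ centralizer ({x} : Set G) : Subgroup G) = ⊥ := by
    rw [eq_bot_iff]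
    rintro a ⟨ha1, ha2⟩
    by_contra hne
    have ha3 : orderOf a = 2 := orderOf_eq_prime ha1.2.2 hne
    exact B.no_inv hx ha3 (mem_centralizer_singleton_iff.1 ha2)
  rw [h4, Subgroup.card_bot, hk] at h3
  have h5 : 2 ^ k % p = 1 := by
    have := h3.symm
    unfold Nat.ModEq at this
    rw [this, Nat.mod_eq_of_lt (by have := B.big; omega)]
  exact B.two k hk1 hk15 h5

theorem Hyp.cent_ne_top (B : Hyp p G D) {y : G} (hy : y ≠ 1) : centralizer ({y} : Set G) ≠ ⊤ := by
  intro h
  apply hy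
  have h1 : y ∈ center G := by
    rw [mem_center_iff]
    intro g
    have : g ∈ centralizer ({y} : Set G) := by rw [h]; trivial
    exact mem_centralizer_singleton_iff.1 this
  rw [B.cen] at h1
  exact h1

theorem Hyp.sq' (B : Hyp p G D) (H : Subgroup G) : ¬ p ^ 2 ∣ Nat.card H :=
  fun h => B.sq (h.trans (Subgroup.card_subgroup_dvd_card H))

/-- the image in `G` of a normal subgroup of `H` is normalized by `H` -/
theorem map_normalizer {H : Subgroup G} (K : Subgroup H) [hK : K.Normal] {x : G} (hx : x ∈ H) :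
    x ∈ normalizer ((K.map H.subtype : Subgroup G) : Set G) := by
  apply mem_normalizer_of
  rintro _ ⟨a, ha, rfl⟩
  exact ⟨_, hK.conj_mem a ha ⟨x, hx⟩, rfl⟩

/-- **(III)** no element `y ≠ 1` commutes with `x` and with an element of `D` -/
theorem Hyp.no_d (B : Hyp p G D) {x y d : G} (hx : orderOf x = p) (hy : y ≠ 1) (hxy : x * y = y * x) (hd : d ∈ D)
    (hdy : d * y = y * d) : False := by
  have hd2 := B.ord d hd
  set H := centralizer ({y} : Set G) with hH
  let x' : H := ⟨x, mem_centralizer_singleton_iff.2 hxy⟩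
  let t : H := ⟨d, mem_centralizer_singleton_iff.2 hdy⟩
  have hx' : orderOf x' = p := by rw [← hx, ← Subgroup.orderOf_coe]
  have ht' : orderOf t = 2 := by rw [← hd2, ← Subgroup.orderOf_coe]
  have hpH : p ∣ Nat.card H := hx' ▸ _root_.orderOf_dvd_natCard x'
  obtain ⟨K, hKn, hpK, -, -, hK⟩ := struct (B.solv H (B.cent_ne_top hy)) hpH (B.sq' H)
  obtain ⟨hX, h1, h2⟩ := hK x' hx'
  have hodd : ¬ 2 ∣ Nat.card K := by
    rw [← Subgroup.card_map_of_injective H.subtype_injective] at hpK ⊢
    exact B.odd hx (map_normalizer K x'.2) hpK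
  have htt : t * t = 1 := by rw [← pow_two, ← ht', pow_orderOf_eq_one]
  set X : H ⧸ K := QuotientGroup.mk x' with hXdef
  set T : H ⧸ K := QuotientGroup.mk t with hTdef
  have hTT : T * T = 1 := by rw [hTdef, ← QuotientGroup.mk_mul, htt, QuotientGroup.mk_one]
  have hTi : T⁻¹ = T := inv_eq_of_mul_eq_one_left hTT
  have h3 : T * X * T⁻¹ ∈ zpowers X := h1 t
  obtain ⟨i, hi⟩ := mem_zpowers_iff.1 h3
  have h4 : X ^ (i * i) = X := by
    rw [zpow_mul, hi, conj_zpow, hi]
    calc T * (T * X * T⁻¹) * T⁻¹ = (T * T) * X * (T * T)⁻¹ := by group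
      _ = X := by rw [hTT, inv_one, one_mul, mul_one]
  have h5 : X ^ (i * i - 1) = 1 := by rw [zpow_sub, h4, zpow_one, mul_inv_cancel]
  have h6 : (p : ℤ) ∣ (i - 1) * (i + 1) := by
    have h7 := orderOf_dvd_iff_zpow_eq_one.2 h5
    rw [hX] at h7
    have e : (i - 1) * (i + 1) = i * i - 1 := by ring
    rw [e]
    exact h7
  have hbig := B.big
  rcases (Nat.prime_iff_prime_int.1 hp.out).dvd_or_dvd h6 with h7 | h7
  · have h8 : X ^ (i - 1) = 1 := by
      rw [← orderOf_dvd_iff_zpow_eq_one, hX]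
      exact h7
    have h9 : T * X * T⁻¹ = X := by
      rw [← hi]
      calc X ^ i = X ^ (i - 1) * X := by rw [← zpow_add_one]; congr 1; ring
        _ = X := by rw [h8, one_mul]
    obtain ⟨j, hj⟩ := mem_zpowers_iff.1 (h2 t h9)
    have h10 : X ^ (2 * j) = 1 := by
      rw [two_mul, zpow_add]
      rw [show X ^ j = T from hj, hTT]
    have h11 := orderOf_dvd_iff_zpow_eq_one.2 h10
    rw [hX] at h11
    have h12 : (p : ℤ) ∣ j := by
      rcases (Nat.prime_iff_prime_int.1 hp.out).dvd_or_dvd h11 with h13 | h13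
      · exfalso
        have h14 : p ∣ 2 := by exact_mod_cast h13
        have := Nat.le_of_dvd (by norm_num) h14
        omega
      · exact h13
    have h13 : T = 1 := by
      have h14 : X ^ j = 1 := by
        rw [← orderOf_dvd_iff_zpow_eq_one, hX]
        exact h12
      rw [← h14]
      exact hj.symm
    have h14 : t ∈ K := (QuotientGroup.eq_one_iff t).1 h13
    apply hodd
    rw [← ht']
    exact Subgroup.orderOf_dvd_natCard K h14
  · have h8 : X ^ (i + 1) = 1 := by
      rw [← orderOf_dvd_iff_zpow_eq_one, hX]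
      exact h7
    have h9 : T * X * T⁻¹ = X⁻¹ := by
      rw [← hi]
      apply eq_inv_of_mul_eq_one_left
      rw [← zpow_add_one, h8]
    have h10 : T * (X * T * X⁻¹) = (X * X)⁻¹ := by
      rw [hTi] at h9
      calc T * (X * T * X⁻¹) = (T * X * T) * X⁻¹ := by group
        _ = (X * X)⁻¹ := by rw [h9, mul_inv_rev]
    have h11 : orderOf (QuotientGroup.mk (t * (x' * t * x'⁻¹)) : H ⧸ K) = p := by
      have e : (QuotientGroup.mk (t * (x' * t * x'⁻¹)) : H ⧸ K) = T * (X * T * X⁻¹) := rfl
      rw [e, h10, orderOf_inv, ← pow_two, orderOf_pow, hX, Nat.gcd_comm]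
      have h12 : Nat.gcd 2 p = 1 := by
        rcases (Nat.dvd_prime Nat.prime_two).1 (Nat.gcd_dvd_left 2 p) with h13 | h13
        · exact h13
        · exfalso
          have h14 : 2 ∣ p := by rw [← h13]; exact Nat.gcd_dvd_right 2 p
          rcases (Nat.dvd_prime hp.out).1 h14 with h15 | h15 <;> omega
      rw [h12, Nat.div_one]
    have h12 : p ∣ orderOf (t * (x' * t * x'⁻¹)) := by
      rw [← h11]
      exact orderOf_map_dvd (QuotientGroup.mk' K) _
    have h13 : orderOf (t * (x' * t * x'⁻¹)) = orderOf (d * (x * d * x⁻¹)) := by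
      rw [← Subgroup.orderOf_coe]; rfl
    have h14 := B.six d hd _ (B.conj d hd x)
    rw [h13] at h12
    have h15 := Nat.le_of_dvd (orderOf_pos _) h12
    omega

/-- **(G)** an `x`-invariant `q`-subgroup is contained in an `x`-invariant Sylow `q`-subgroup of `G`. -/
theorem Hyp.exists_sylow (B : Hyp p G D) {x : G} (hx : orderOf x = p) {q : ℕ} [hq : Fact q.Prime]
    (hqp : ¬ q ∣ p * (p - 1)) {S : Subgroup G} (hS : IsPGroup q S) (hS1 : S ≠ ⊥) (hxS : x ∈ normalizer (S : Set G)) :
    ∃ R : Sylow q G, S ≤ R ∧ x ∈ normalizer ((R : Subgroup G) : Set G) := by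
  have hxp : x ^ p = 1 := by rw [← hx, pow_orderOf_eq_one]
  have hqne : q ≠ p := by
    rintro rfl
    exact hqp (dvd_mul_right _ _)
  obtain ⟨R, hSR, hR, hmax⟩ : ∃ R : Subgroup G, S ≤ R ∧ (IsPGroup q R ∧ x ∈ normalizer (R : Set G)) ∧
      ∀ A : Subgroup G, IsPGroup q A → x ∈ normalizer (A : Set G) → R ≤ A → A = R := by
    obtain ⟨R, hR1, hR2⟩ := Set.Finite.exists_le_maximal
      (Set.toFinite {R : Subgroup G | IsPGroup q R ∧ x ∈ normalizer (R : Set G)}) (a := S) ⟨hS, hxS⟩
    exact ⟨R, hR1, hR2.1, fun A h1 h2 h3 => le_antisymm (hR2.2 ⟨h1, h2⟩ h3) h3⟩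
  have hR1 : R ≠ ⊥ := fun h => hS1 (by rw [eq_bot_iff, ← h]; exact hSR)
  have hpR : ¬ p ∣ Nat.card R := by
    intro h
    obtain ⟨n, hn⟩ := IsPGroup.iff_card.1 hR.1
    rw [hn] at h
    exact hqne ((Nat.prime_dvd_prime_iff_eq hp.out hq.out).1 (hp.out.dvd_of_dvd_pow h)).symm
  set H := normalizer (R : Set G) with hH
  have hHt : H ≠ ⊤ := by
    intro h
    have hsimple := B.simple
    have h1 : R.Normal := Subgroup.normalizer_eq_top_iff.1 h
    rcases h1.eq_bot_or_eq_top with h2 | h2
    · exact hR1 h2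
    · apply hpR
      rw [h2, Subgroup.card_top, ← hx]
      exact _root_.orderOf_dvd_natCard x
  have hpH : p ∣ Nat.card H := by
    rw [← hx]
    exact Subgroup.orderOf_dvd_natCard H hR.2
  obtain ⟨K, hKn, hpK, hKmax, hidx, -⟩ := struct (B.solv H hHt) hpH (B.sq' H)
  have hRH : R ≤ H := le_normalizer
  have hRK : R.subgroupOf H ≤ K := hKmax _ normal_in_normalizer (by
    rw [Nat.card_congr (subgroupOfEquivOfLe hRH).toEquiv]; exact hpR)
  have hRK' : R ≤ K.map H.subtype := by
    intro a ha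
    exact ⟨⟨a, hRH ha⟩, hRK (mem_subgroupOf.2 ha), rfl⟩
  have hcK : Nat.card (K.map H.subtype : Subgroup G) = Nat.card K := Subgroup.card_map_of_injective H.subtype_injective
  obtain ⟨S2, hS2K, hS2, hS2c, hxS2, hS2max⟩ := exists_inv hxp (map_normalizer K hR.2) (by rw [hcK]; exact hpK) q
  have hRS2 : R ≤ S2 := hS2max R hRK' hR.1 (by
    rintro _ ⟨a, -, rfl⟩
    exact a.2)
  have hS2R := hmax S2 hS2 hxS2 hRS2
  rw [hS2R, hcK] at hS2c
  -- `R` is a Sylow subgroup of `H`
  have hqK : ¬ q ∣ K.index := fun h => hqp (h.trans hidx)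
  have hRc : Nat.card R = q ^ (Nat.card G).factorization q := by
    set n := (Nat.card K).factorization q with hn
    obtain h3 | h3 := lt_or_ge n ((Nat.card G).factorization q)
    · exfalso
      have h4 : q ^ (n + 1) ∣ Nat.card G := (pow_dvd_pow q h3).trans (Nat.ordProj_dvd _ _)
      have h5 := Sylow.prime_dvd_card_quotient_normalizer h4 hS2c
      have h6 : Nat.card H = Nat.card (H ⧸ R.subgroupOf H) * Nat.card (R.subgroupOf H) :=
        Subgroup.card_eq_card_quotient_mul_card_subgroup _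
      rw [Nat.card_congr (subgroupOfEquivOfLe hRH).toEquiv, hS2c] at h6
      have h7 : q ^ (n + 1) ∣ Nat.card H := by
        rw [h6, pow_succ, mul_comm]
        exact Nat.mul_dvd_mul_right h5 _
      rw [← K.card_mul_index] at h7
      have h8 : (q ^ (n + 1)).Coprime K.index := Nat.Coprime.pow_left _ ((hq.out.coprime_iff_not_dvd).2 hqK)
      have h9 := h8.dvd_of_dvd_mul_right h7
      have h10 := (hq.out.pow_dvd_iff_le_factorization Nat.card_pos.ne').1 h9
      omega
    · have h4 : n ≤ (Nat.card G).factorization q := by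
        have h5 : q ^ n ∣ Nat.card G := hS2c ▸ Subgroup.card_subgroup_dvd_card R
        exact (hq.out.pow_dvd_iff_le_factorization Nat.card_pos.ne').1 h5
      rw [hS2c, le_antisymm h4 h3]
  exact ⟨Sylow.ofCard R hRc, hSR, hR.2⟩

/-- **Pigeonhole.** -/
theorem Hyp.pigeon (B : Hyp p G D) {x d : G} (hx : orderOf x = p) (hd : d ∈ D) {q a b n : ℕ} (hq : q.Prime)
    (ha : q ^ a ∣ Nat.card (centralizer ({x} : Set G))) (hb : q ^ b ∣ Nat.card (centralizer ({d} : Set G)))
    (hn : ¬ q ^ (n + 1) ∣ Nat.card G) : a + b ≤ n := by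
  by_contra hcon
  obtain ⟨g, y, hy, hy1, hy2⟩ := H199.NSmAbs.exists_common hq hn ha hb (by omega)
  have hy0 : y ≠ 1 := by
    rintro rfl
    rw [orderOf_one] at hy
    exact hq.one_lt.ne hy
  have h1 := mem_centralizer_singleton_iff.1 hy1
  have h2 := mem_centralizer_singleton_iff.1 hy2
  refine B.no_d hx hy0 h1.symm (B.conj d hd g⁻¹) ?_
  calc g⁻¹ * d * g⁻¹⁻¹ * y = g⁻¹ * (d * (g * y * g⁻¹)) * g := by group
    _ = g⁻¹ * ((g * y * g⁻¹) * d) * g := by rw [h2]
    _ = y * (g⁻¹ * d * g⁻¹⁻¹) := by group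

/-- the centralizer of `x` in an invariant Sylow subgroup containing a Sylow subgroup of `C(x)` -/
theorem Hyp.part (B : Hyp p G D) {x : G} (hx : orderOf x = p) {q : ℕ} [hq : Fact q.Prime]
    (hqp : ¬ q ∣ p * (p - 1)) (h : q ∣ Nat.card (centralizer ({x} : Set G))) :
    ∃ (a : ℕ) (R : Sylow q G), 1 ≤ a ∧ q ^ a ∣ Nat.card (centralizer ({x} : Set G)) ∧
      ¬ q ^ (a + 1) ∣ Nat.card (centralizer ({x} : Set G)) ∧
      Nat.card ((R : Subgroup G) ⊓ centralizer ({x} : Set G) : Subgroup G) = q ^ a ∧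
      q ^ a ≡ q ^ (Nat.card G).factorization q [MOD p] := by
  have hxp : x ^ p = 1 := by rw [← hx, pow_orderOf_eq_one]
  set C := centralizer ({x} : Set G) with hC
  set a := (Nat.card C).factorization q with ha
  obtain ⟨P⟩ : Nonempty (Sylow q C) := inferInstance
  have hPc : Nat.card (P : Subgroup C) = q ^ a := Sylow.card_eq_multiplicity P
  set P' : Subgroup G := (P : Subgroup C).map C.subtype with hP'
  have hP'c : Nat.card P' = q ^ a := by rw [hP', Subgroup.card_map_of_injective C.subtype_injective, hPc]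
  have ha1 : 1 ≤ a := (hq.out.dvd_iff_one_le_factorization Nat.card_pos.ne').1 h
  have hP'1 : P' ≠ ⊥ := by
    intro h1
    rw [h1, Subgroup.card_bot] at hP'c
    have := Nat.one_lt_pow (n := a) (by omega) hq.out.one_lt
    omega
  have hP'C : P' ≤ C := Subgroup.map_subtype_le _
  have hxP : x ∈ normalizer (P' : Set G) := by
    apply mem_normalizer_of
    intro b hb
    have h1 := mem_centralizer_singleton_iff.1 (hP'C hb)
    have h2 : x * b * x⁻¹ = b := by rw [← h1]; group
    rw [h2]; exact hb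
  obtain ⟨R, hPR, hxR⟩ := B.exists_sylow hx hqp (IsPGroup.of_card hP'c) hP'1 hxP
  have hnd : ¬ q ^ (a + 1) ∣ Nat.card C := fun h1 => by
    have := (hq.out.pow_dvd_iff_le_factorization Nat.card_pos.ne').1 h1
    omega
  have hRC : Nat.card ((R : Subgroup G) ⊓ C : Subgroup G) = q ^ a := by
    have h1 : IsPGroup q ((R : Subgroup G) ⊓ C : Subgroup G) := R.2.to_le inf_le_left
    obtain ⟨m, hm⟩ := IsPGroup.iff_card.1 h1
    have h2 : q ^ m ∣ Nat.card C := hm ▸ Subgroup.card_dvd_of_le inf_le_right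
    have h3 : m ≤ a := (hq.out.pow_dvd_iff_le_factorization Nat.card_pos.ne').1 h2
    have h4 : q ^ a ∣ q ^ m := by
      rw [← hP'c, ← hm]
      exact Subgroup.card_dvd_of_le (le_inf hPR hP'C)
    have h5 : a ≤ m := (Nat.pow_dvd_pow_iff_le_right hq.out.one_lt).1 h4
    rw [hm, le_antisymm h3 h5]
  refine ⟨a, R, ha1, Nat.ordProj_dvd _ _, hnd, hRC, ?_⟩
  have h1 := fixed_mod hxp hxR
  rw [hRC, Sylow.card_eq_multiplicity R] at h1
  exact h1

/-- **(G1)** -/
theorem Hyp.not_dvd (B : Hyp p G D) {x d : G} (hx : orderOf x = p) (hd : d ∈ D) {q : ℕ} [hq : Fact q.Prime]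
    (hqp : ¬ q ∣ p * (p - 1)) (hcond : ∀ i, 1 ≤ i → q ^ i ∣ Nat.card G → ¬ p ∣ q ^ i - 1)
    (hqd : q ∣ Nat.card (centralizer ({d} : Set G))) : ¬ q ∣ Nat.card (centralizer ({x} : Set G)) := by
  intro h
  have hqne : q ≠ p := by
    rintro rfl
    exact hqp (dvd_mul_right _ _)
  obtain ⟨a, R, ha1, ha, -, hRa, hmod⟩ := B.part hx hqp h
  set n := (Nat.card G).factorization q with hn
  have han : a ≤ n := (hq.out.pow_dvd_iff_le_factorization Nat.card_pos.ne').1
    (ha.trans (Subgroup.card_subgroup_dvd_card _))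
  have hnG : q ^ n ∣ Nat.card G := Nat.ordProj_dvd _ _
  have hqp' : (q ^ a).Coprime p := Nat.Coprime.pow_left _ ((Nat.coprime_primes hq.out hp.out).2 hqne)
  have h1 : n = a := by
    by_contra hne
    have h2 : q ^ n = q ^ a * q ^ (n - a) := by rw [← pow_add]; congr 1; omega
    rw [h2] at hmod
    have h3 : p ∣ q ^ (n - a) - 1 := by
      have h4 : q ^ a * 1 ≡ q ^ a * q ^ (n - a) [MOD p] := by rwa [mul_one]
      have h5 := Nat.ModEq.cancel_left_of_coprime (by rw [Nat.gcd_comm]; exact hqp') h4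
      exact (Nat.modEq_iff_dvd' (Nat.one_le_pow _ _ hq.out.pos)).1 h5
    exact hcond (n - a) (by omega) ((pow_dvd_pow q (by omega)).trans hnG) h3
  have h2 : (R : Subgroup G) ≤ centralizer ({x} : Set G) := by
    have h3 : (R : Subgroup G) ⊓ centralizer ({x} : Set G) = R :=
      Subgroup.eq_of_le_of_card_ge inf_le_left (by rw [hRa, Sylow.card_eq_multiplicity R, ← hn, h1])
    rw [← h3]; exact inf_le_right
  obtain ⟨z, hz⟩ := exists_prime_orderOf_dvd_card' q hqd
  have hzo : orderOf (z : G) = q := by rw [Subgroup.orderOf_coe, hz]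
  have hz1 : (z : G) ≠ 1 := by
    intro h3
    rw [h3, orderOf_one] at hzo
    exact hq.out.one_lt.ne hzo
  have hzp : IsPGroup q (zpowers (z : G)) := IsPGroup.of_card (n := 1) (by rw [Nat.card_zpowers, hzo, pow_one])
  obtain ⟨T, hT⟩ := hzp.exists_le_sylow
  obtain ⟨g, hg⟩ := MulAction.exists_smul_eq G T R
  have hgz : g * z * g⁻¹ ∈ (R : Subgroup G) := by
    rw [← hg]
    exact ⟨(z : G), hT (mem_zpowers _), rfl⟩
  have h3 := mem_centralizer_singleton_iff.1 (h2 hgz)
  have h4 := mem_centralizer_singleton_iff.1 z.2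
  refine B.no_d (y := g * z * g⁻¹) hx ?_ h3.symm (B.conj d hd g) ?_
  · intro h5
    apply hz1
    have := congrArg (fun t => g⁻¹ * t * g) h5
    simpa only [mul_assoc, _root_.OneMemClass.coe_eq_one, _root_.inv_mul_cancel_left, _root_.inv_mul_cancel, _root_.mul_one] using this
  · calc g * d * g⁻¹ * (g * z * g⁻¹) = g * (d * z) * g⁻¹ := by group
      _ = g * (z * d) * g⁻¹ := by rw [h4]
      _ = g * z * g⁻¹ * (g * d * g⁻¹) := by group

/-- **(f)** -/
theorem Hyp.dvd_of_comm (B : Hyp p G D) {x w : G} (hx : orderOf x = p) (hw : w ≠ 1) (hxw : x * w = w * x)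
    {q : ℕ} [hq : Fact q.Prime] (hqp : ¬ q ∣ p * (p - 1)) (hqw : q ∣ Nat.card (centralizer ({w} : Set G)))
    (hmod : ¬ q ^ (Nat.card G).factorization q ≡ 1 [MOD p]) : q ∣ Nat.card (centralizer ({x} : Set G)) := by
  have hxp : x ^ p = 1 := by rw [← hx, pow_orderOf_eq_one]
  set H := centralizer ({w} : Set G) with hH
  have hxH : x ∈ H := mem_centralizer_singleton_iff.2 hxw
  have hpH : p ∣ Nat.card H := by
    rw [← hx]
    exact Subgroup.orderOf_dvd_natCard H hxH
  obtain ⟨K, hKn, hpK, -, hidx, -⟩ := struct (B.solv H (B.cent_ne_top hw)) hpH (B.sq' H)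
  have hcK : Nat.card (K.map H.subtype : Subgroup G) = Nat.card K := Subgroup.card_map_of_injective H.subtype_injective
  obtain ⟨S, -, hS, hSc, hxS, -⟩ := exists_inv hxp (map_normalizer K hxH) (by rw [hcK]; exact hpK) q
  have hqK : q ∣ Nat.card K := by
    rw [← K.card_mul_index] at hqw
    exact (hq.out.dvd_mul.1 hqw).resolve_right fun h => hqp (h.trans hidx)
  have hS1 : S ≠ ⊥ := by
    rintro rfl
    rw [Subgroup.card_bot, hcK] at hSc
    have h1 : 1 ≤ (Nat.card K).factorization q := (hq.out.dvd_iff_one_le_factorization Nat.card_pos.ne').1 hqK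
    have := Nat.one_lt_pow (n := (Nat.card K).factorization q) (by omega) hq.out.one_lt
    omega
  obtain ⟨R, -, hxR⟩ := B.exists_sylow hx hqp hS hS1 hxS
  have h1 := fixed_mod hxp hxR
  rw [Sylow.card_eq_multiplicity R] at h1
  have h2 : IsPGroup q ((R : Subgroup G) ⊓ centralizer ({x} : Set G) : Subgroup G) := R.2.to_le inf_le_left
  obtain ⟨m, hm⟩ := IsPGroup.iff_card.1 h2
  rcases Nat.eq_zero_or_pos m with rfl | hm0
  · rw [hm, pow_zero] at h1
    exact absurd h1.symm hmod
  · exact (dvd_pow_self q hm0.ne').trans (hm ▸ Subgroup.card_dvd_of_le inf_le_right)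

end Main

end Cfsg.Agent.H87.MP
end

-- part: H87/MP/Mon
section
/-!
# S3988, row M: the centralizers of the elements of order 41 and 71 (helper87)
-/

set_option autoImplicit false
set_option maxRecDepth 100000

namespace Cfsg.Agent.H87.MP

open Subgroup Cfsg
open Cfsg.Agent.H995.CopEngine
open Cfsg.Agent.BpSpor.MBigModel Cfsg.Agent.H58.Cop.MLow Cfsg.Agent.H58.Cop.M
open Cfsg.Agent.LThreeB.Row (TA)

/-- `|M|` -/
abbrev NM : ℕ := 808017424794512875886459904961710757005754368000000000

theorem rank_mg : PRankLE 2 15 MG := by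
  obtain ⟨e⟩ := Cfsg.Agent.MonsterP.Equiv.equiv
  intro A hA hA2
  have h := Cfsg.Agent.H332.MonUpper.monster_le (A.map e.symm.toMonoidHom) ?_ ?_
  · rwa [Subgroup.card_map_of_injective e.symm.injective] at h
  · refine ⟨⟨?_⟩⟩
    rintro ⟨_, a, ha, rfl⟩ ⟨_, b, hb, rfl⟩
    apply Subtype.ext
    show e.symm a * e.symm b = e.symm b * e.symm a
    rw [← map_mul, ← map_mul]
    have h1 : a * b = b * a := congrArg Subtype.val (hA.is_comm.comm (⟨a, ha⟩ : A) ⟨b, hb⟩)
    rw [h1]
  · rintro _ ⟨a, ha, rfl⟩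
    show (e.symm a) ^ 2 = 1
    rw [← map_pow, hA2 a ha, map_one]

theorem hyp {p : ℕ} (hp : p = 41 ∨ p = 71) (hs : ∀ H : Subgroup MG, H ≠ ⊤ → IsPSolvable p H) :
    Hyp p MG {t | TA t} where
  simple := simple
  big := by omega
  sq := by rw [card_M]; rcases hp with rfl | rfl <;> norm_num
  solv := hs
  inv := by
    intro t ht
    rcases cls ht with ⟨g, hg⟩ | h
    · rw [BpSpor.card_cent_of_conj hg, card_cent_z]
      rcases hp with rfl | rfl <;> norm_num
    · rw [card_cent_t h]
      rcases hp with rfl | rfl <;> norm_num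
  rank := rank_mg
  two := by
    intro k h1 h2
    rcases hp with rfl | rfl <;> interval_cases k <;> norm_num
  cen := center_model
  conj := fun d hd g => ta_conj hd g
  ord := fun d hd => orderOf_ta hd
  six := fun d hd e he => six_ta hd he

theorem fact_eq {n q k : ℕ} (hq : q.Prime) (hn : n ≠ 0) (h1 : q ^ k ∣ n) (h2 : ¬ q ^ (k + 1) ∣ n) :
    n.factorization q = k := by
  apply le_antisymm
  · by_contra h
    exact h2 ((hq.pow_dvd_iff_le_factorization hn).2 (by omega))
  · exact (hq.pow_dvd_iff_le_factorization hn).1 h1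

theorem fact_le {n q k : ℕ} (hq : q.Prime) (hn : n ≠ 0) (h2 : ¬ q ^ (k + 1) ∣ n) : n.factorization q ≤ k := by
  by_contra h
  exact h2 ((hq.pow_dvd_iff_le_factorization hn).2 (by omega))

theorem eq_prod {n : ℕ} (hn : n ≠ 0) (T : Finset ℕ) (h : ∀ q, q.Prime → q ∣ n → q ∈ T) :
    n = ∏ q ∈ T, q ^ n.factorization q := by
  conv_lhs => rw [← Nat.factorization_prod_pow_eq_self hn]
  apply Finsupp.prod_of_support_subset
  · intro q hq
    rw [Nat.support_factorization, Nat.mem_primeFactors] at hq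
    exact h q hq.1 hq.2.1
  · intro q _
    exact pow_zero q

section Common

variable {p : ℕ} [hpf : Fact p.Prime] {x : MG}

/-- the primes which are excluded for both `p` -/
theorem not_common (hp : p = 41 ∨ p = 71) (B : Hyp p MG {t | TA t}) (hK : AllKnown.{0}) (hx : orderOf x = p) {q : ℕ}
    (hq : q ∈ ([2, 11, 13, 17, 19, 23, 31, 47, 59] : List ℕ)) : ¬ q ∣ Nat.card (centralizer ({x} : Set MG)) := by
  have hfin := finite
  intro hd
  obtain ⟨t, ht⟩ := exists_ta
  simp only [List.mem_cons, List.not_mem_nil, or_false] at hq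
  have key : ∀ (q m : ℕ) (hq : q.Prime), ¬ q ∣ p * (p - 1) → ¬ q ^ (m + 1) ∣ NM → condB p q m = true →
      q ∣ 2 * 4154781481226426191177580544000000 → ¬ q ∣ Nat.card (centralizer ({x} : Set MG)) := by
    intro q m hq h1 h2 h3 h4
    have : Fact q.Prime := ⟨hq⟩
    refine B.not_dvd hx (show t ∈ {t | TA t} from ht) h1 ?_ (by rw [card_cent_t ht]; exact h4)
    rw [card_M]
    exact cond_of_chk hq h2 h3
  rcases hq with rfl | rfl | rfl | rfl | rfl | rfl | rfl | rfl | rfl
  · obtain ⟨s, hs⟩ := exists_ord_of_dvd Nat.prime_two hd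
    exact B.no_inv hx (by rw [Subgroup.orderOf_coe, hs]) (mem_centralizer_singleton_iff.1 s.2)
  · refine key 11 2 (by norm_num) ?_ (by norm_num) ?_ (by norm_num) hd
    · rcases hp with rfl | rfl <;> norm_num
    · rcases hp with rfl | rfl <;> decide +kernel
  · refine key 13 3 (by norm_num) ?_ (by norm_num) ?_ (by norm_num) hd
    · rcases hp with rfl | rfl <;> norm_num
    · rcases hp with rfl | rfl <;> decide +kernel
  · refine key 17 1 (by norm_num) ?_ (by norm_num) ?_ (by norm_num) hd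
    · rcases hp with rfl | rfl <;> norm_num
    · rcases hp with rfl | rfl <;> decide +kernel
  · refine key 19 1 (by norm_num) ?_ (by norm_num) ?_ (by norm_num) hd
    · rcases hp with rfl | rfl <;> norm_num
    · rcases hp with rfl | rfl <;> decide +kernel
  · refine key 23 1 (by norm_num) ?_ (by norm_num) ?_ (by norm_num) hd
    · rcases hp with rfl | rfl <;> norm_num
    · rcases hp with rfl | rfl <;> decide +kernel
  · refine key 31 1 (by norm_num) ?_ (by norm_num) ?_ (by norm_num) hd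
    · rcases hp with rfl | rfl <;> norm_num
    · rcases hp with rfl | rfl <;> decide +kernel
  · refine key 47 1 (by norm_num) ?_ (by norm_num) ?_ (by norm_num) hd
    · rcases hp with rfl | rfl <;> norm_num
    · rcases hp with rfl | rfl <;> decide +kernel
  · obtain ⟨y, hy⟩ := exists_ord_of_dvd prime59 hd
    have hy' : orderOf (y : MG) = 59 := by rw [Subgroup.orderOf_coe, hy]
    have h1 := (norm_fiftynine hK hy').1
    have h2 : x ∈ centralizer ({(y : MG)} : Set MG) :=
      mem_centralizer_singleton_iff.2 (mem_centralizer_singleton_iff.1 y.2).symm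
    have h3 := Subgroup.orderOf_dvd_natCard _ h2
    rw [h1, hx] at h3
    rcases hp with rfl | rfl <;> norm_num at h3

/-- if 29 divides `|C(x)|`, then so does 3 -/
theorem three_of_29 (hp : p = 41 ∨ p = 71) (B : Hyp p MG {t | TA t}) (hx : orderOf x = p)
    (hd : 29 ∣ Nat.card (centralizer ({x} : Set MG))) : 3 ∣ Nat.card (centralizer ({x} : Set MG)) := by
  have hfin := finite
  have h29 : Nat.Prime 29 := by norm_num
  have : Fact (Nat.Prime 29) := ⟨h29⟩
  have : Fact (Nat.Prime 3) := ⟨Nat.prime_three⟩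
  obtain ⟨w, hw⟩ := exists_ord_of_dvd h29 hd
  have hwo : orderOf (w : MG) = 29 := by rw [Subgroup.orderOf_coe, hw]
  have hw1 : (w : MG) ≠ 1 := by
    intro h
    rw [h, orderOf_one] at hwo
    norm_num at hwo
  -- the centralizer of `w` contains an element of order 3
  obtain ⟨u, y, hu, hy, huy, -⟩ := Cfsg.Agent.H149.Sp.exists_m
  have h3 : 3 ∣ Nat.card (centralizer ({(w : MG)} : Set MG)) := by
    have hidx : ∀ v : MG, orderOf v = 29 → ∃ P : Sylow 29 MG, (P : Subgroup MG) = zpowers v := by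
      intro v hv
      have hz : Nat.card (zpowers v) = 29 := by rw [Nat.card_zpowers, hv]
      refine ⟨Sylow.ofCard (zpowers v) ?_, rfl⟩
      rw [hz, card_M, fact_eq (k := 1) h29 (by norm_num) (by norm_num) (by norm_num), pow_one]
    obtain ⟨P, hP⟩ := hidx w hwo
    obtain ⟨Q, hQ⟩ := hidx u hu
    obtain ⟨g, hg⟩ := MulAction.exists_smul_eq MG Q P
    have h1 : g * u * g⁻¹ ∈ zpowers (w : MG) := by
      rw [← hP, ← hg]
      have hu' : u ∈ (Q : Subgroup MG) := by rw [hQ]; exact mem_zpowers u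
      exact ⟨u, hu', rfl⟩
    have h2 : orderOf (g * u * g⁻¹) = 29 := by
      rw [← MulAut.conj_apply, MulEquiv.orderOf_eq, hu]
    have h4 : zpowers (g * u * g⁻¹) = zpowers (w : MG) :=
      Subgroup.eq_of_le_of_card_ge (by rw [zpowers_le]; exact h1) (by rw [Nat.card_zpowers, Nat.card_zpowers, h2, hwo])
    have h5 : (w : MG) ∈ zpowers (g * u * g⁻¹) := by rw [h4]; exact mem_zpowers _
    obtain ⟨i, hi⟩ := mem_zpowers_iff.1 h5
    have h6 : orderOf (g * y * g⁻¹) = 3 := by
      rw [← MulAut.conj_apply, MulEquiv.orderOf_eq, hy]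
    have h7 : g * y * g⁻¹ ∈ centralizer ({(w : MG)} : Set MG) := by
      rw [mem_centralizer_singleton_iff, ← hi]
      have h8 : Commute (g * u * g⁻¹) (g * y * g⁻¹) := by
        show g * u * g⁻¹ * (g * y * g⁻¹) = g * y * g⁻¹ * (g * u * g⁻¹)
        calc g * u * g⁻¹ * (g * y * g⁻¹) = g * (u * y) * g⁻¹ := by group
          _ = g * (y * u) * g⁻¹ := by rw [huy]
          _ = g * y * g⁻¹ * (g * u * g⁻¹) := by group
      exact (h8.zpow_left i).eq.symm
    rw [← h6]
    exact Subgroup.orderOf_dvd_natCard _ h7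
  refine B.dvd_of_comm hx hw1 (mem_centralizer_singleton_iff.1 w.2).symm ?_ h3 ?_
  · rcases hp with rfl | rfl <;> norm_num
  · rw [card_M, fact_eq (k := 20) Nat.prime_three (by norm_num) (by norm_num) (by norm_num)]
    rcases hp with rfl | rfl <;> unfold Nat.ModEq <;> norm_num

end Common

/-! ### `p = 41` -/

instance fact41 : Fact (Nat.Prime 41) := ⟨by norm_num⟩
instance fact71 : Fact (Nat.Prime 71) := ⟨by norm_num⟩

set_option synthInstance.maxHeartbeats 400000 in
set_option synthInstance.maxSize 2000 in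
theorem chk41 : ∀ a ∈ ([0, 4] : List ℕ), ∀ b < 4, ∀ f < 2, ∀ g < 2, ∀ e < 41,
    ((f = 1 → a = 4) ∧ e ≠ 1 ∧ 40 % e = 0 ∧
    NM % (41 * (3 ^ a * (5 ^ b * (29 ^ f * 71 ^ g))) * e) = 0 ∧
    NM / (41 * (3 ^ a * (5 ^ b * (29 ^ f * 71 ^ g))) * e) % 41 = 1) →
    3 ^ a * (5 ^ b * (29 ^ f * 71 ^ g)) ≤ 125 := by
  decide +kernel

theorem card_le_41 (hK : AllKnown.{0}) (hs : ∀ H : Subgroup MG, H ≠ ⊤ → IsPSolvable 41 H) {x : MG}
    (hx : orderOf x = 41) : Nat.card (centralizer ({x} : Set MG)) ≤ 5125 := by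
  have hfin := finite
  have hsim := simple
  have B := hyp (Or.inl rfl) hs
  obtain ⟨t, ht⟩ := exists_ta
  set c := Nat.card (centralizer ({x} : Set MG)) with hc
  have hc0 : c ≠ 0 := Nat.card_pos.ne'
  have hcM : c ∣ NM := by
    have := Subgroup.card_subgroup_dvd_card (centralizer ({x} : Set MG))
    rwa [card_M] at this
  have h41 : 41 ∣ c := by
    rw [← hx]
    exact Subgroup.orderOf_dvd_natCard _ (mem_centralizer_singleton_iff.2 rfl)
  -- 7 by (G1)
  have h7 : ¬ 7 ∣ c := by
    have : Fact (Nat.Prime 7) := ⟨by norm_num⟩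
    refine B.not_dvd hx (show t ∈ {t | TA t} from ht) (by norm_num) ?_ (by rw [card_cent_t ht]; norm_num)
    rw [card_M]
    exact cond_of_chk (m := 6) (by norm_num) (by norm_num) (by decide +kernel)
  have hprimes : ∀ q, q.Prime → q ∣ c → q ∈ ({41, 3, 5, 29, 71} : Finset ℕ) := by
    intro q hq hd
    have h1 := mem_primes hq (hd.trans hcM)
    simp only [List.mem_cons, List.not_mem_nil, or_false] at h1
    have h2 : ∀ r ∈ ([2, 11, 13, 17, 19, 23, 31, 47, 59] : List ℕ), q ≠ r := by
      rintro r hr rfl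
      exact not_common (Or.inl rfl) B hK hx hr hd
    simp only [List.mem_cons, List.not_mem_nil, or_false, forall_eq_or_imp, forall_eq] at h2
    have h3 : q ≠ 7 := by rintro rfl; exact h7 hd
    simp only [Finset.mem_insert, Finset.mem_singleton]
    (clear * - h1 h2 h3; omega)
  have e41 : c.factorization 41 = 1 := fact_eq (by norm_num) hc0 (by rw [pow_one]; exact h41) fun h => by
    have := h.trans hcM
    norm_num at this
  have e29 : c.factorization 29 ≤ 1 := fact_le (by norm_num) hc0 fun h => by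
    have := h.trans hcM
    norm_num at this
  have e71 : c.factorization 71 ≤ 1 := fact_le (by norm_num) hc0 fun h => by
    have := h.trans hcM
    norm_num at this
  have e5 : c.factorization 5 ≤ 3 := by
    have h1 := B.pigeon (q := 5) (a := c.factorization 5) (b := 6) (n := 9) hx (show t ∈ {t | TA t} from ht) (by norm_num)
      (Nat.ordProj_dvd _ _) (by rw [card_cent_t ht]; norm_num) (by rw [card_M]; norm_num)
    omega
  have e3 : 3 ∣ c → c.factorization 3 = 4 := by
    intro h3
    have : Fact (Nat.Prime 3) := ⟨Nat.prime_three⟩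
    obtain ⟨a, R, ha1, ha, ha', -, hmod⟩ := B.part hx (q := 3) (by norm_num) h3
    have h4 : c.factorization 3 = a := fact_eq Nat.prime_three hc0 ha ha'
    rw [card_M, fact_eq (k := 20) Nat.prime_three (by norm_num) (by norm_num) (by norm_num)] at hmod
    have h5 := B.pigeon (q := 3) (a := a) (b := 13) (n := 20) hx (show t ∈ {t | TA t} from ht) (by norm_num)
      ha (by rw [card_cent_t ht]; norm_num) (by rw [card_M]; norm_num)
    have h6 : a ≤ 7 := by omega
    rw [h4]
    unfold Nat.ModEq at hmod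
    interval_cases a <;> first | rfl | (exfalso; norm_num at hmod)
  have e3' : c.factorization 3 ∈ ([0, 4] : List ℕ) := by
    by_cases h3 : 3 ∣ c
    · rw [e3 h3]; simp
    · rw [Nat.factorization_eq_zero_of_not_dvd h3]; simp
  have hf : c.factorization 29 = 1 → c.factorization 3 = 4 := by
    intro h
    apply e3
    apply three_of_29 (Or.inl rfl) B hx
    exact (Nat.Prime.dvd_iff_one_le_factorization (by norm_num) hc0).2 (by omega)
  have hcc : c = 41 * (3 ^ c.factorization 3 * (5 ^ c.factorization 5 * (29 ^ c.factorization 29 * 71 ^ c.factorization 71))) := by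
    conv_lhs => rw [eq_prod hc0 _ hprimes]
    rw [Finset.prod_insert (by decide), Finset.prod_insert (by decide), Finset.prod_insert (by decide),
      Finset.prod_insert (by decide), Finset.prod_singleton, e41, pow_one]
  obtain ⟨e, he, he1, hN, h0, h1⟩ := Cfsg.Agent.H58.Cop.arith (s := 41) (by norm_num) hx (by rw [card_M]; norm_num)
    (by rw [card_M]; norm_num)
  rw [← hc, card_M] at h0 h1
  have he40 : e ≤ 40 := Nat.le_of_dvd (by norm_num) he
  have key := chk41 _ e3' _ (show c.factorization 5 < 4 by omega) _ (show c.factorization 29 < 2 by omega) _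
    (show c.factorization 71 < 2 by omega) e (by omega) ⟨hf, he1, Nat.mod_eq_zero_of_dvd he,
    by rw [← hcc]; exact Nat.mod_eq_zero_of_dvd h0, by rw [← hcc]; exact h1⟩
  rw [hcc]
  calc 41 * (3 ^ c.factorization 3 * (5 ^ c.factorization 5 * (29 ^ c.factorization 29 * 71 ^ c.factorization 71)))
      ≤ 41 * 125 := Nat.mul_le_mul_left _ key
    _ = 5125 := by norm_num

/-! ### `p = 71` -/

set_option synthInstance.maxHeartbeats 400000 in
set_option synthInstance.maxSize 2000 in
theorem chk71 : ∀ b < 4, ∀ d < 5, ∀ g < 2, ∀ e < 71, (e ≠ 1 ∧ 70 % e = 0 ∧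
    NM % (71 * (5 ^ b * (7 ^ d * 41 ^ g)) * e) = 0 ∧
    NM / (71 * (5 ^ b * (7 ^ d * 41 ^ g)) * e) % 71 = 1) →
    5 ^ b * (7 ^ d * 41 ^ g) ≤ 7 ∨ 5 ^ b * (7 ^ d * 41 ^ g) = 14063 := by
  decide +kernel

theorem chkdiv : ∀ i < 4, (7 ^ i * 1 % 41 = 1 → 7 ^ i * 1 = 1) ∧ (7 ^ i * 71 % 41 = 1 → 7 ^ i * 71 = 1) := by
  decide +kernel

/-- the case `|C(x)| = 71 · 41 · 7³` -/
theorem kill {x : MG} (hc : Nat.card (centralizer ({x} : Set MG)) = 71 * 14063) : False := by
  have hfin := finite
  set C := centralizer ({x} : Set MG) with hC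
  obtain ⟨P⟩ : Nonempty (Sylow 41 C) := inferInstance
  have hPc : Nat.card (P : Subgroup C) = 41 := by
    rw [Sylow.card_eq_multiplicity P, hc, fact_eq (k := 1) (by norm_num) (by norm_num) (by norm_num) (by norm_num), pow_one]
  have hPi : (P : Subgroup C).index = 71 * 343 := by
    have h1 := (P : Subgroup C).card_mul_index
    rw [hPc, hc] at h1
    omega
  have h1 : Nat.card (Sylow 41 C) ∣ 7 ^ 3 * 71 := by
    have := Sylow.card_dvd_index P
    rw [hPi] at this
    exact this
  have h2 : Nat.card (Sylow 41 C) % 41 = 1 := card_sylow_modEq_one 41 C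
  have h3 : Nat.card (Sylow 41 C) = 1 := by
    obtain ⟨a, b, ha, hb, hab⟩ := exists_dvd_and_dvd_of_dvd_mul h1
    obtain ⟨i, hi, rfl⟩ := (Nat.dvd_prime_pow (by norm_num)).1 ha
    rw [hab] at h2 ⊢
    rcases (Nat.dvd_prime (show Nat.Prime 71 by norm_num)).1 hb with rfl | rfl
    · exact (chkdiv i (by omega)).1 h2
    · exact (chkdiv i (by omega)).2 h2
  have hsub : Subsingleton (Sylow 41 C) := (Nat.card_eq_one_iff_unique.1 h3).1
  have hPn : (P : Subgroup C).Normal := inferInstance
  have h4 := relIndex_centralizer_dvd (r := 41) (by norm_num) (P : Subgroup C) hPc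
  rw [Subgroup.normalizer_eq_top_iff.2 hPn, Subgroup.relIndex_top_right] at h4
  have h5 : 7 ∣ Nat.card (centralizer ((P : Subgroup C) : Set C)) := by
    have h6 := (centralizer ((P : Subgroup C) : Set C)).card_mul_index
    rw [hc] at h6
    have h7 : 7 ∣ Nat.card (centralizer ((P : Subgroup C) : Set C)) * (centralizer ((P : Subgroup C) : Set C)).index := by
      rw [h6]; norm_num
    refine ((Nat.Prime.dvd_mul (by norm_num)).1 h7).resolve_right fun h8 => ?_
    have h9 := h8.trans h4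
    norm_num at h9
  obtain ⟨v, hv⟩ := exists_ord_of_dvd (p := 7) (by norm_num) h5
  obtain ⟨u, hu⟩ := exists_ord_of_dvd (p := 41) (G := (P : Subgroup C)) (by norm_num) (by rw [hPc])
  have huv : ((u : C) : MG) * ((v : C) : MG) = ((v : C) : MG) * ((u : C) : MG) :=
    congrArg Subtype.val (mem_centralizer_iff.1 v.2 (u : C) u.2)
  have hvo : orderOf ((v : C) : MG) = 7 := by rw [Subgroup.orderOf_coe, Subgroup.orderOf_coe, hv]
  have huo : orderOf ((u : C) : MG) = 41 := by rw [Subgroup.orderOf_coe, Subgroup.orderOf_coe, hu]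
  apply Cfsg.Agent.H199.AbMon.seven_not_dvd (r := 41) (by simp) hvo
  have h6 := Subgroup.orderOf_dvd_natCard _ (mem_centralizer_singleton_iff.2 huv)
  rwa [huo] at h6

theorem card_le_71 (hK : AllKnown.{0}) (hs : ∀ H : Subgroup MG, H ≠ ⊤ → IsPSolvable 71 H) {x : MG}
    (hx : orderOf x = 71) : Nat.card (centralizer ({x} : Set MG)) ≤ 5125 := by
  have hfin := finite
  have hsim := simple
  have B := hyp (Or.inr rfl) hs
  obtain ⟨t, ht⟩ := exists_ta
  set c := Nat.card (centralizer ({x} : Set MG)) with hc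
  have hc0 : c ≠ 0 := Nat.card_pos.ne'
  have hcM : c ∣ NM := by
    have := Subgroup.card_subgroup_dvd_card (centralizer ({x} : Set MG))
    rwa [card_M] at this
  have h71 : 71 ∣ c := by
    rw [← hx]
    exact Subgroup.orderOf_dvd_natCard _ (mem_centralizer_singleton_iff.2 rfl)
  have h3 : ¬ 3 ∣ c := by
    have : Fact (Nat.Prime 3) := ⟨by norm_num⟩
    refine B.not_dvd hx (show t ∈ {t | TA t} from ht) (by norm_num) ?_ (by rw [card_cent_t ht]; norm_num)
    rw [card_M]
    exact cond_of_chk (m := 20) (by norm_num) (by norm_num) (by decide +kernel)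
  have h29 : ¬ 29 ∣ c := fun h => h3 (three_of_29 (Or.inr rfl) B hx h)
  have hprimes : ∀ q, q.Prime → q ∣ c → q ∈ ({71, 5, 7, 41} : Finset ℕ) := by
    intro q hq hd
    have h1 := mem_primes hq (hd.trans hcM)
    simp only [List.mem_cons, List.not_mem_nil, or_false] at h1
    have h2 : ∀ r ∈ ([2, 11, 13, 17, 19, 23, 31, 47, 59] : List ℕ), q ≠ r := by
      rintro r hr rfl
      exact not_common (Or.inr rfl) B hK hx hr hd
    simp only [List.mem_cons, List.not_mem_nil, or_false, forall_eq_or_imp, forall_eq] at h2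
    have h4 : q ≠ 3 := by rintro rfl; exact h3 hd
    have h5 : q ≠ 29 := by rintro rfl; exact h29 hd
    simp only [Finset.mem_insert, Finset.mem_singleton]
    (clear * - h1 h2 h4 h5; omega)
  have e71 : c.factorization 71 = 1 := fact_eq (by norm_num) hc0 (by rw [pow_one]; exact h71) fun h => by
    have := h.trans hcM
    norm_num at this
  have e41 : c.factorization 41 ≤ 1 := fact_le (by norm_num) hc0 fun h => by
    have := h.trans hcM
    norm_num at this
  have e5 : c.factorization 5 ≤ 3 := by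
    have h1 := B.pigeon (q := 5) (a := c.factorization 5) (b := 6) (n := 9) hx (show t ∈ {t | TA t} from ht) (by norm_num)
      (Nat.ordProj_dvd _ _) (by rw [card_cent_t ht]; norm_num) (by rw [card_M]; norm_num)
    omega
  have e7 : c.factorization 7 ≤ 4 := by
    have h1 := B.pigeon (q := 7) (a := c.factorization 7) (b := 2) (n := 6) hx (show t ∈ {t | TA t} from ht) (by norm_num)
      (Nat.ordProj_dvd _ _) (by rw [card_cent_t ht]; norm_num) (by rw [card_M]; norm_num)
    omega
  have hcc : c = 71 * (5 ^ c.factorization 5 * (7 ^ c.factorization 7 * 41 ^ c.factorization 41)) := by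
    conv_lhs => rw [eq_prod hc0 _ hprimes]
    rw [Finset.prod_insert (by decide), Finset.prod_insert (by decide), Finset.prod_insert (by decide),
      Finset.prod_singleton, e71, pow_one]
  obtain ⟨e, he, he1, hN, h0, h1⟩ := Cfsg.Agent.H58.Cop.arith (s := 71) (by norm_num) hx (by rw [card_M]; norm_num)
    (by rw [card_M]; norm_num)
  rw [← hc, card_M] at h0 h1
  have he70 : e ≤ 70 := Nat.le_of_dvd (by norm_num) he
  have key := chk71 _ (show c.factorization 5 < 4 by omega) _ (show c.factorization 7 < 5 by omega) _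
    (show c.factorization 41 < 2 by omega) e (by omega) ⟨he1, Nat.mod_eq_zero_of_dvd he,
    by rw [← hcc]; exact Nat.mod_eq_zero_of_dvd h0, by rw [← hcc]; exact h1⟩
  rcases key with key | key
  · rw [hcc]
    calc 71 * (5 ^ c.factorization 5 * (7 ^ c.factorization 7 * 41 ^ c.factorization 41))
        ≤ 71 * 7 := Nat.mul_le_mul_left _ key
      _ ≤ 5125 := by norm_num
  · exfalso
    rw [key] at hcc
    exact kill hcc

theorem solv_congr {G H : Type*} [Group G] [Group H] {p : ℕ} [Fact p.Prime] (e : G ≃* H)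
    (h : ∀ K : Subgroup G, K ≠ ⊤ → IsPSolvable p K) : ∀ K : Subgroup H, K ≠ ⊤ → IsPSolvable p K := by
  intro K hK
  have h1 : K.map e.symm.toMonoidHom ≠ ⊤ := by
    intro h2
    apply hK
    rw [eq_top_iff]
    intro a _
    have h3 : e.symm a ∈ K.map e.symm.toMonoidHom := by rw [h2]; trivial
    obtain ⟨b, hb, hba⟩ := h3
    have : b = a := e.symm.injective hba
    rwa [this] at hb
  exact (PLocal.PSolvable.isPSolvable_congr (K.equivMapOfInjective e.symm.toMonoidHom e.symm.injective)).2 (h _ h1)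

theorem piece_MP41 (hK : AllKnown.{0}) : H606.PQR.PieceMP 41 := by
  intro hs y hy
  obtain ⟨e⟩ := Cfsg.Agent.MonsterP.Equiv.equiv
  rw [H537.Cop.card_centralizer_equiv e]
  exact card_le_41 hK (solv_congr e hs) (by rw [MulEquiv.orderOf_eq, hy])

theorem piece_MP71 (hK : AllKnown.{0}) : H606.PQR.PieceMP 71 := by
  intro hs y hy
  obtain ⟨e⟩ := Cfsg.Agent.MonsterP.Equiv.equiv
  rw [H537.Cop.card_centralizer_equiv e]
  exact card_le_71 hK (solv_congr e hs) (by rw [MulEquiv.orderOf_eq, hy])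

end Cfsg.Agent.H87.MP
end
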